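import Mathlib
import Groth.Agent.PSLib.Basic
import Groth.Agent.PSLib.Regular
import Groth.Agent.ComodLib.PSAut
import Groth.Agent.ArSingLib.Basic

/-!
# Plane power series up to coordinate changes and units

Isomorphisms of the quotient algebras `k⟦x,y⟧/(F)` come from automorphisms of `k⟦x,y⟧` as soon as the
series have order at least two.
-/

noncomputable section

namespace Groth.Agent.ArSingX

universe u

variable {k : Type u} [Field k]

local notation "P" => MvPowerSeries (Fin 2) k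

/-- The ideal of the variables. -/
abbrev m (k : Type u) [Field k] : Ideal (MvPowerSeries (Fin 2) k) := PSLib.vars 2 k

instance isDomain : IsDomain P :=
  NoZeroDivisors.to_isDomain _

/-- Equality up to a coordinate change and a unit. -/
def Same (F G : MvPowerSeries (Fin 2) k) : Prop :=
  ∃ e : P ≃ₐ[k] P, Ideal.span {e F} = Ideal.span {G}

theorem X_mem (i : Fin 2) : (MvPowerSeries.X i : P) ∈ m k := Ideal.subset_span ⟨i, rfl⟩

theorem mem_m {F : P} : F ∈ m k ↔ MvPowerSeries.constantCoeff F = 0 := PSLib.mem_vars_iff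

theorem isUnit_iff_notMem {F : P} : IsUnit F ↔ F ∉ m k := by
  rw [mem_m, MvPowerSeries.isUnit_iff_constantCoeff, isUnit_iff_ne_zero]

theorem aut_mem (e : P ≃ₐ[k] P) {F : P} (hF : F ∈ m k) : e F ∈ m k := by
  by_contra h
  have h' := (isUnit_iff_notMem.mpr h).map e.symm
  rw [AlgEquiv.symm_apply_apply] at h'
  exact isUnit_iff_notMem.mp h' hF

theorem aut_pow_mem (e : P ≃ₐ[k] P) {F : P} {N : ℕ} (hF : F ∈ m k ^ N) : e F ∈ m k ^ N :=
  PSLib.map_pow_le e.toAlgHom (fun i => aut_mem e (X_mem i)) N (Ideal.mem_map_of_mem _ hF)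

theorem Same.symm {F G : P} (h : Same F G) : Same G F := by
  obtain ⟨e, he⟩ := h
  refine ⟨e.symm, ?_⟩
  have := congrArg (Ideal.map (e.symm : P →+* P)) he
  rw [Ideal.map_span, Ideal.map_span, Set.image_singleton, Set.image_singleton] at this
  simpa using this.symm

theorem Same.trans {F G H : P} (h : Same F G) (h' : Same G H) : Same F H := by
  obtain ⟨e, he⟩ := h
  obtain ⟨e', he'⟩ := h'
  refine ⟨e.trans e', ?_⟩
  have := congrArg (Ideal.map (e' : P →+* P)) he
  rw [Ideal.map_span, Ideal.map_span, Set.image_singleton, Set.image_singleton] at this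
  rw [← he']
  simpa using this

theorem same_unit {F G u : P} (hu : IsUnit u) (h : F = G * u) : Same F G :=
  ⟨AlgEquiv.refl, by rw [AlgEquiv.coe_refl, id_eq, h, Ideal.span_singleton_mul_right_unit hu]⟩

theorem Same.exists_eq {F G : P} (h : Same F G) :
    ∃ (e : P ≃ₐ[k] P) (u : P), IsUnit u ∧ e F = G * u := by
  obtain ⟨e, he⟩ := h
  obtain ⟨u, hu⟩ := (Ideal.span_singleton_eq_span_singleton.mp he.symm)
  exact ⟨e, u, u.isUnit, hu.symm⟩

theorem same_of_aut {F G u : P} (e : P ≃ₐ[k] P) (hu : IsUnit u) (h : e F = G * u) : Same F G :=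
  ⟨e, by rw [h, Ideal.span_singleton_mul_right_unit hu]⟩

theorem Same.mem_pow {F G : P} (h : Same F G) {N : ℕ} (hG : G ∈ m k ^ N) : F ∈ m k ^ N := by
  obtain ⟨e, u, -, he⟩ := h.exists_eq
  have := aut_pow_mem e.symm (Ideal.mul_mem_right u _ hG)
  rwa [← he, AlgEquiv.symm_apply_apply] at this

theorem Same.nonempty_algEquiv {F G : P} (h : Same F G) :
    Nonempty ((P ⧸ Ideal.span {F}) ≃ₐ[k] (P ⧸ Ideal.span {G})) := by
  obtain ⟨e, he⟩ := h
  refine ⟨Ideal.quotientEquivAlg _ _ e ?_⟩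
  rw [Ideal.map_span, Set.image_singleton]
  exact he.symm

/-- A map of quotients lifts to the power series ring. -/
theorem exists_lift {F G : P} (hF : F ∈ m k) (hG : G ∈ m k)
    (φ : (P ⧸ Ideal.span {F}) ≃ₐ[k] (P ⧸ Ideal.span {G})) :
    ∃ θ : P →ₐ[k] P, (∀ i, θ (MvPowerSeries.X i) ∈ m k) ∧
      ∀ z, Ideal.Quotient.mk (Ideal.span {G}) (θ z) = φ (Ideal.Quotient.mk (Ideal.span {F}) z) := by
  choose a ha using fun i => Ideal.Quotient.mk_surjective (φ (Ideal.Quotient.mk _ (MvPowerSeries.X i)))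
  have ham : ∀ i, a i ∈ m k := by
    intro i
    by_contra h
    have h' : IsUnit (φ (Ideal.Quotient.mk (Ideal.span {F}) (MvPowerSeries.X i))) :=
      ha i ▸ (isUnit_iff_notMem.mpr h).map _
    have h'' := h'.map φ.symm
    rw [AlgEquiv.symm_apply_apply] at h''
    obtain ⟨z, hz⟩ := h''.exists_right_inv
    obtain ⟨w, rfl⟩ := Ideal.Quotient.mk_surjective z
    rw [← map_mul, ← map_one (Ideal.Quotient.mk (Ideal.span {F})), Ideal.Quotient.eq] at hz
    have h1 := sub_mem (Ideal.mul_mem_right w _ (X_mem (k := k) i))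
      ((Ideal.span_singleton_le_iff_mem _).mpr hF hz)
    rw [sub_sub_cancel, mem_m, map_one] at h1
    exact one_ne_zero h1
  have hs : MvPowerSeries.HasSubst a :=
    MvPowerSeries.hasSubst_of_constantCoeff_zero fun i => mem_m.mp (ham i)
  have hX : ∀ i, MvPowerSeries.substAlgHom (R := k) hs (MvPowerSeries.X i) = a i :=
    MvPowerSeries.substAlgHom_X hs
  refine ⟨MvPowerSeries.substAlgHom hs, fun i => (hX i).symm ▸ ham i, fun z => ?_⟩
  have : Nontrivial (P ⧸ Ideal.span {G}) := Ideal.Quotient.nontrivial_iff.mpr fun h => by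
    have := (Ideal.span_singleton_le_iff_mem _).mpr hG (h ▸ Submodule.mem_top : (1 : P) ∈ _)
    rw [mem_m, map_one] at this
    exact one_ne_zero this
  have : IsLocalRing (P ⧸ Ideal.span {G}) :=
    IsLocalRing.of_surjective' (Ideal.Quotient.mk _) Ideal.Quotient.mk_surjective
  have key := PSLib.algHom_ext (I := IsLocalRing.maximalIdeal (P ⧸ Ideal.span {G}))
    ((Ideal.Quotient.mkₐ k (Ideal.span {G})).comp (MvPowerSeries.substAlgHom hs))
    (φ.toAlgHom.comp (Ideal.Quotient.mkₐ k (Ideal.span {F}))) (fun i => ?_) (fun i => ?_)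
  · exact AlgHom.congr_fun key z
  · rw [AlgHom.comp_apply, hX]
    intro hu
    obtain ⟨w, hw⟩ := hu.exists_right_inv
    obtain ⟨w, rfl⟩ := Ideal.Quotient.mk_surjective w
    change Ideal.Quotient.mk _ (a i) * Ideal.Quotient.mk _ w = 1 at hw
    rw [← map_mul, ← map_one (Ideal.Quotient.mk (Ideal.span {G})), Ideal.Quotient.eq] at hw
    have h1 := sub_mem (Ideal.mul_mem_right w _ (ham i))
      ((Ideal.span_singleton_le_iff_mem _).mpr hG hw)
    rw [sub_sub_cancel, mem_m, map_one] at h1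
    exact one_ne_zero h1
  · rw [AlgHom.comp_apply, AlgHom.comp_apply, hX]
    exact ha i

theorem coeff_single_mul {a c : P} (ha : a ∈ m k) (i : Fin 2) :
    MvPowerSeries.coeff (Finsupp.single i 1) (c * a) =
      MvPowerSeries.constantCoeff c * MvPowerSeries.coeff (Finsupp.single i 1) a := by
  have hmem : (c - MvPowerSeries.C (MvPowerSeries.constantCoeff c)) * a ∈ m k ^ 2 := by
    rw [pow_two]
    exact Ideal.mul_mem_mul (mem_m.mpr (by simp)) ha
  have := PSLib.mem_pow_iff.mp hmem (Finsupp.single i 1) (by simp)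
  rw [sub_mul, map_sub, MvPowerSeries.coeff_C_mul, sub_eq_zero] at this
  exact this

/-- Isomorphic quotients come from the same series up to coordinates and a unit, in order `≥ 2`. -/
theorem same_of_algEquiv {F G : P} (hF : F ∈ m k) (hG : G ∈ m k ^ 2)
    (φ : (P ⧸ Ideal.span {F}) ≃ₐ[k] (P ⧸ Ideal.span {G})) : Same F G := by
  have hG1 : G ∈ m k := Ideal.pow_le_self two_ne_zero hG
  obtain ⟨θ, hθ, hθφ⟩ := exists_lift hF hG1 φ
  obtain ⟨ψ, hψ, hψφ⟩ := exists_lift hG1 hF φ.symm
  have h1 : ∀ j, MvPowerSeries.X j ∈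
      Ideal.span (Set.range fun i => θ (MvPowerSeries.X i)) ⊔ m k ^ 2 := by
    intro j
    have h : θ (ψ (MvPowerSeries.X j)) - MvPowerSeries.X j ∈ Ideal.span {G} := by
      rw [← Ideal.Quotient.eq, hθφ, hψφ, AlgEquiv.apply_symm_apply]
    rw [← sub_sub_cancel (θ (ψ (MvPowerSeries.X j))) (MvPowerSeries.X j)]
    refine sub_mem (Ideal.mem_sup_left ?_)
      (Ideal.mem_sup_right ((Ideal.span_singleton_le_iff_mem _).mpr hG h))
    obtain ⟨A, B, hAB⟩ := ArSingLib.mv_decomp (ψ (MvPowerSeries.X j))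
    rw [hAB, mem_m.mp (hψ j), map_zero, zero_add, map_add, map_mul, map_mul]
    exact add_mem (Ideal.mul_mem_right _ _ (Ideal.subset_span ⟨0, rfl⟩))
      (Ideal.mul_mem_right _ _ (Ideal.subset_span ⟨1, rfl⟩))
  let e := AlgEquiv.ofBijective θ (PSLib.bijective_of_first_order θ hθ h1)
  refine ⟨e, le_antisymm ?_ ?_⟩ <;> rw [Ideal.span_singleton_le_iff_mem]
  · change θ F ∈ _
    rw [← Ideal.Quotient.eq_zero_iff_mem, hθφ,
      Ideal.Quotient.eq_zero_iff_mem.mpr (Ideal.mem_span_singleton_self F), map_zero]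
  · obtain ⟨w, hw⟩ := e.surjective G
    have h : w ∈ Ideal.span {F} := by
      rw [← Ideal.Quotient.eq_zero_iff_mem]
      apply φ.injective
      rw [map_zero, ← hθφ, show θ w = G from hw,
        Ideal.Quotient.eq_zero_iff_mem.mpr (Ideal.mem_span_singleton_self G)]
    obtain ⟨c, rfl⟩ := Ideal.mem_span_singleton.mp h
    rw [← hw, map_mul]
    exact Ideal.mul_mem_right _ _ (Ideal.mem_span_singleton_self _)

/-- Transposing the variables. -/
theorem exists_swap : ∃ e : P ≃ₐ[k] P, e (MvPowerSeries.X 0) = MvPowerSeries.X 1 ∧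
    e (MvPowerSeries.X 1) = MvPowerSeries.X 0 := by
  obtain ⟨e, he⟩ := ComodLib.PSAut.exists_algEquiv
    (![MvPowerSeries.X 1, MvPowerSeries.X 0] : Fin 2 → P)
    (fun i => by fin_cases i <;> exact X_mem _) fun j => by
      fin_cases j
      exacts [Ideal.subset_span ⟨1, rfl⟩, Ideal.subset_span ⟨0, rfl⟩]
  exact ⟨e, he 0, he 1⟩

/-- A series with non-zero linear part is part of a coordinate system. -/
theorem exists_coord {F : P} (hF : F ∈ m k) (h : F ∉ m k ^ 2) :
    ∃ l : Fin 2, ∀ j, MvPowerSeries.X j ∈ Ideal.span {F, MvPowerSeries.X l} := by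
  obtain ⟨G, H, hGH⟩ := ArSingLib.mv_decomp F
  rw [mem_m.mp hF, map_zero, zero_add] at hGH
  have hFs : F ∈ Ideal.span {F, (MvPowerSeries.X 0 : P)} := Ideal.subset_span (Or.inl rfl)
  have hFs' : F ∈ Ideal.span {F, (MvPowerSeries.X 1 : P)} := Ideal.subset_span (Or.inl rfl)
  by_cases hG : IsUnit G
  · refine ⟨1, fun j => ?_⟩
    fin_cases j
    · refine (Ideal.mul_unit_mem_iff_mem _ hG).mp ?_
      have := sub_mem hFs' (Ideal.mul_mem_right H _
        (Ideal.subset_span (Or.inr rfl) : (MvPowerSeries.X 1 : P) ∈ Ideal.span {F, MvPowerSeries.X 1}))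
      rwa [hGH, add_sub_cancel_right, ← hGH] at this
    · exact Ideal.subset_span (Or.inr rfl)
  · by_cases hH : IsUnit H
    · refine ⟨0, fun j => ?_⟩
      fin_cases j
      · exact Ideal.subset_span (Or.inr rfl)
      · refine (Ideal.mul_unit_mem_iff_mem _ hH).mp ?_
        have := sub_mem hFs (Ideal.mul_mem_right G _
          (Ideal.subset_span (Or.inr rfl) : (MvPowerSeries.X 0 : P) ∈ Ideal.span {F, MvPowerSeries.X 0}))
        rwa [hGH, add_sub_cancel_left, ← hGH] at this
    · refine absurd ?_ h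
      rw [isUnit_iff_notMem, not_not] at hG hH
      rw [hGH, pow_two]
      exact add_mem (Ideal.mul_mem_mul (X_mem 0) hG) (Ideal.mul_mem_mul (X_mem 1) hH)

/-- A series with non-zero linear part becomes a variable. -/
theorem exists_aut_X {F : P} (hF : F ∈ m k) (h : F ∉ m k ^ 2) :
    ∃ e : P ≃ₐ[k] P, e (MvPowerSeries.X 1) = F := by
  obtain ⟨l, hl⟩ := exists_coord hF h
  obtain ⟨e, he⟩ := ComodLib.PSAut.exists_algEquiv (![MvPowerSeries.X l, F] : Fin 2 → P)
    (fun i => by fin_cases i; exacts [X_mem l, hF]) fun j => by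
      refine Ideal.span_mono ?_ (hl j)
      rintro _ (rfl | rfl)
      exacts [⟨1, rfl⟩, ⟨0, rfl⟩]
  exact ⟨e, he 1⟩

end Groth.Agent.ArSingX
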