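import Mathlib
import Groth.Agent.ArSingX.Coord

/-!
# Double smooth branches of plane curves
-/

noncomputable section

namespace Groth.Agent.ArSingX

open MvPolynomial (aeval eval pderiv)

universe u

variable {k : Type u} [Field k]

local notation "P" => MvPowerSeries (Fin 2) k
local notation "R" => MvPolynomial (Fin 2) k

/-- Recentring at a point. -/
def sh (a : Fin 2 → k) : MvPolynomial (Fin 2) k →ₐ[k] MvPolynomial (Fin 2) k :=
  aeval fun i : Fin 2 => MvPolynomial.X i + MvPolynomial.C (a i)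

theorem sh_sh (a : Fin 2 → k) (f : R) : sh a (sh (-a) f) = f := by
  have : (sh a).comp (sh (-a)) = AlgHom.id k R := MvPolynomial.algHom_ext fun i => by simp [sh]
  exact AlgHom.congr_fun this f

theorem eval_sh (a : Fin 2 → k) (f : R) : eval 0 (sh a f) = eval a f := by
  induction f using MvPolynomial.induction_on <;> simp_all [sh]

theorem pderiv_sh (a : Fin 2 → k) (i : Fin 2) (f : R) : pderiv i (sh a f) = sh a (pderiv i f) := by
  induction f using MvPolynomial.induction_on with
  | C c => simp [sh]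
  | add p q hp hq => simp [hp, hq]
  | mul_X p l hp =>
    rw [map_mul, MvPolynomial.pderiv_mul, MvPolynomial.pderiv_mul, map_add, map_mul, map_mul, hp]
    congr 1
    rcases eq_or_ne l i with rfl | h <;> simp [sh, *]

/-- The embedding of polynomials into series. -/
abbrev ι (k : Type u) [Field k] : MvPolynomial (Fin 2) k →+* MvPowerSeries (Fin 2) k :=
  MvPolynomial.coeToMvPowerSeries.ringHom

theorem ι_mem {f : R} : ι k f ∈ m k ↔ eval 0 f = 0 := by
  rw [mem_m, ← MvPowerSeries.coeff_zero_eq_constantCoeff_apply]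
  change MvPowerSeries.coeff 0 (f : P) = 0 ↔ _
  rw [MvPolynomial.coeff_coe, MvPolynomial.eval_zero]
  rfl

theorem eval_pderiv_zero (f : R) (i : Fin 2) :
    eval 0 (pderiv i f) = MvPowerSeries.coeff (Finsupp.single i 1) (ι k f) := by
  change _ = MvPowerSeries.coeff (Finsupp.single i 1) (f : P)
  rw [MvPolynomial.coeff_coe, MvPolynomial.eval_zero]
  change MvPolynomial.coeff 0 (pderiv i f) = _
  rw [MvPolynomial.coeff_pderiv]
  simp

theorem notMem_sq_iff {F : P} (hF : F ∈ m k) :
    F ∉ m k ^ 2 ↔ ∃ i : Fin 2, MvPowerSeries.coeff (Finsupp.single i 1) F ≠ 0 := by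
  constructor
  · intro h
    by_contra hn
    push Not at hn
    refine h (PSLib.mem_pow_iff.mpr fun d hd => ?_)
    rcases Nat.lt_succ_iff.mp hd |>.lt_or_eq with h0 | h1
    · rw [(Finsupp.degree_eq_zero_iff d).mp (by omega), MvPowerSeries.coeff_zero_eq_constantCoeff_apply]
      exact mem_m.mp hF
    · obtain ⟨i, rfl⟩ : ∃ i : Fin 2, d = Finsupp.single i 1 := by
        rw [Finsupp.degree_eq_sum, Fin.sum_univ_two] at h1
        rcases Nat.eq_zero_or_pos (d 0) with h | h
        · exact ⟨1, Finsupp.ext fun l => by fin_cases l <;> simp <;> omega⟩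
        · exact ⟨0, Finsupp.ext fun l => by fin_cases l <;> simp <;> omega⟩
      exact hn i
  · rintro ⟨i, hi⟩ h
    exact hi (PSLib.mem_pow_iff.mp h _ (by simp))

theorem X1_sq_mem : (MvPowerSeries.X 1 : P) ^ 2 ∈ m k ^ 2 := Ideal.pow_mem_pow (X_mem 1) 2

theorem X1_ne_zero : (MvPowerSeries.X 1 : P) ≠ 0 := fun h => by
  have := congrArg (MvPowerSeries.coeff (Finsupp.single 1 1)) h
  rw [MvPowerSeries.coeff_index_single_self_X, map_zero] at this
  exact one_ne_zero this

theorem X1_sq_notMem : (MvPowerSeries.X 1 : P) ^ 2 ∉ m k ^ 3 := fun h => by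
  have := PSLib.mem_pow_iff.mp h (Finsupp.single 1 2) (by simp)
  rw [MvPowerSeries.X_pow_eq, MvPowerSeries.coeff_monomial_same] at this
  exact one_ne_zero this

/-- The double smooth branch. -/
theorem same_sq {g h : R} (hg : eval 0 g = 0) (hi : ∃ i, eval 0 (pderiv i g) ≠ 0)
    (hh : eval 0 h ≠ 0) : Same (ι k (g ^ 2 * h)) ((MvPowerSeries.X 1 : P) ^ 2) := by
  obtain ⟨i, hi⟩ := hi
  rw [eval_pderiv_zero] at hi
  obtain ⟨e, he⟩ := exists_aut_X (ι_mem.mpr hg) ((notMem_sq_iff (ι_mem.mpr hg)).mpr ⟨i, hi⟩)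
  refine same_of_aut e.symm ((isUnit_iff_notMem.mpr (ι_mem.not.mpr hh)).map e.symm) ?_
  rw [map_mul (ι k), map_pow (ι k), map_mul, map_pow, ← he, AlgEquiv.symm_apply_apply]

/-- Irreducible polynomials over a perfect field have a non-vanishing derivative. -/
theorem exists_pderiv_ne_zero [PerfectField k] {p : R} (hp : Irreducible p) :
    ∃ i, pderiv i p ≠ 0 := by
  by_contra hn
  push Not at hn
  have hcast : ∀ d ∈ p.support, ∀ i, (d i : k) = 0 := by
    intro d hd i
    rcases Nat.eq_zero_or_pos (d i) with h | h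
    · rw [h, Nat.cast_zero]
    have h' := congrArg (MvPolynomial.coeff (d - Finsupp.single i 1)) (hn i)
    rw [MvPolynomial.coeff_pderiv, MvPolynomial.coeff_zero,
      tsub_add_cancel_of_le (Finsupp.single_le_iff.mpr h)] at h'
    rcases mul_eq_zero.mp h' with h' | h'
    · exact absurd h' (MvPolynomial.mem_support_iff.mp hd)
    · rw [← h']
      simp only [Finsupp.coe_tsub, Pi.sub_apply, Finsupp.single_eq_same]
      rw [Nat.cast_sub h, Nat.cast_one, sub_add_cancel]
  obtain ⟨q, hq⟩ := CharP.exists k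
  rcases CharP.char_is_prime_or_zero k q with hq' | rfl
  · have : Fact q.Prime := ⟨hq'⟩
    have : ExpChar k q := .prime hq'
    have : PerfectRing k q := PerfectField.toPerfectRing q
    have hpow : p = (∑ d ∈ p.support, MvPolynomial.monomial (d.mapRange (· / q) (Nat.zero_div q))
        ((frobeniusEquiv k q).symm (MvPolynomial.coeff d p))) ^ q := by
      conv_lhs => rw [p.as_sum]
      rw [sum_pow_char q]
      refine Finset.sum_congr rfl fun d hd => ?_
      rw [MvPolynomial.monomial_pow, frobeniusEquiv_symm_pow_p]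
      congr 1
      congr 1
      ext i
      simp only [Finsupp.smul_apply, Finsupp.mapRange_apply, smul_eq_mul]
      exact (Nat.mul_div_cancel' ((CharP.cast_eq_zero_iff k q _).mp (hcast d hd i))).symm
    rw [hpow] at hp
    exact not_irreducible_pow hq'.one_lt.ne' hp
  · have : CharZero k := CharP.charP_to_charZero k
    have hd0 : ∀ d ∈ p.support, d = 0 := fun d hd => Finsupp.ext fun i => by
      exact_mod_cast hcast d hd i
    have hC : p = MvPolynomial.C (MvPolynomial.coeff 0 p) := by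
      ext d
      rw [MvPolynomial.coeff_C]
      split_ifs with h
      · rw [h]
      · exact MvPolynomial.notMem_support_iff.mp fun hd => h (hd0 d hd).symm
    have hne : MvPolynomial.coeff 0 p ≠ 0 := fun h => hp.ne_zero (by rw [hC, h, map_zero])
    exact hp.not_isUnit (hC ▸ (isUnit_iff_ne_zero.mpr hne).map MvPolynomial.C)

/-- The ideal of a polynomial and its derivatives. -/
def jac (f : MvPolynomial (Fin 2) k) : Ideal (MvPolynomial (Fin 2) k) :=
  Ideal.span ({f} ∪ Set.range fun i => pderiv i f)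

/-- Off the repeated factors through the origin, `f` and its derivatives cut out at most a point. -/
theorem exists_pow_mem_jac [PerfectField k] {f : R} (hf : f ≠ 0)
    (hno : ∀ p : R, Prime p → eval 0 p = 0 → ¬ p ^ 2 ∣ f) (i : Fin 2) :
    ∃ (s : R) (N : ℕ), eval 0 s ≠ 0 ∧ s * MvPolynomial.X i ^ N ∈ jac f := by
  let M : Ideal R := RingHom.ker (eval (0 : Fin 2 → k))
  have hMmax : M.IsMaximal := RingHom.ker_isMaximal_of_surjective _ fun c => ⟨MvPolynomial.C c, by simp⟩
  have hMp : M.IsPrime := hMmax.isPrime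
  let S : Submonoid R := M.primeCompl ⊔ Submonoid.powers (MvPolynomial.X i)
  by_contra hn
  push Not at hn
  have hdisj : Disjoint (jac f : Set R) (S : Set R) := by
    rw [Set.disjoint_left]
    intro x hx hxS
    obtain ⟨s, hs, _, ⟨N, rfl⟩, rfl⟩ := Submonoid.mem_sup.mp hxS
    exact hn s N (fun h => hs h) hx
  obtain ⟨q, hq, hJq, hdq⟩ := Ideal.exists_le_prime_disjoint (jac f) S hdisj
  have hqM : q ≤ M := fun x hx => by
    by_contra h
    exact Set.disjoint_left.mp hdq hx (Submonoid.mem_sup_left h)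
  have hXq : (MvPolynomial.X i : R) ∉ q := fun h =>
    Set.disjoint_left.mp hdq h (Submonoid.mem_sup_right ⟨1, pow_one _⟩)
  have hXM : (MvPolynomial.X i : R) ∈ M := by simp [M, RingHom.mem_ker]
  have hfq : f ∈ q := hJq (Ideal.subset_span (Or.inl rfl))
  obtain ⟨p, hpq, hp⟩ := hq.exists_mem_prime_of_ne_bot fun h => hf (by rwa [h, Ideal.mem_bot] at hfq)
  have hpprime : (Ideal.span {p}).IsPrime := (Ideal.span_singleton_prime hp.ne_zero).mpr hp
  have hle : Ideal.span {p} ≤ q := (Ideal.span_singleton_le_iff_mem _).mpr hpq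
  have heq : Ideal.span {p} = q := by
    by_contra hne
    have hlt : Ideal.span {p} < q := lt_of_le_of_ne hle hne
    have hlt' : q < M := lt_of_le_of_ne hqM fun h => hXq (h ▸ hXM)
    let c0 : PrimeSpectrum R := ⟨⊥, Ideal.isPrime_bot⟩
    let c1 : PrimeSpectrum R := ⟨Ideal.span {p}, hpprime⟩
    let c2 : PrimeSpectrum R := ⟨q, hq⟩
    let c3 : PrimeSpectrum R := ⟨M, hMp⟩
    have h1 : c0 < c1 := show (⊥ : Ideal R) < Ideal.span {p} from
      bot_lt_iff_ne_bot.mpr (by simpa using hp.ne_zero)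
    have h2 : c1 < c2 := hlt
    have h3 : c2 < c3 := hlt'
    let ch : LTSeries (PrimeSpectrum R) := (((RelSeries.singleton _ c0).snoc c1 h1).snoc c2
      (by rw [RelSeries.last_snoc]; exact h2)).snoc c3 (by rw [RelSeries.last_snoc]; exact h3)
    have h := Order.LTSeries.length_le_krullDim ch
    have hd : ringKrullDim R = ((2 : ℕ) : WithBot ℕ∞) := by
      rw [MvPolynomial.ringKrullDim_of_isNoetherianRing, ringKrullDim_eq_zero_of_field, zero_add]
      simp
    rw [show Order.krullDim (PrimeSpectrum R) = ringKrullDim R from rfl, hd] at h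
    have h' : (3 : ℕ) ≤ 2 := by exact_mod_cast h
    omega
  obtain ⟨h, rfl⟩ : p ∣ f := by rwa [← Ideal.mem_span_singleton, heq]
  obtain ⟨l, hl⟩ := exists_pderiv_ne_zero hp.irreducible
  have hdl : p ∣ pderiv l p * h := by
    have h1 : pderiv l (p * h) ∈ q := hJq (Ideal.subset_span (Or.inr ⟨l, rfl⟩))
    rw [← heq, Ideal.mem_span_singleton, MvPolynomial.pderiv_mul] at h1
    exact (dvd_add_left (dvd_mul_right p _)).mp h1
  rcases hp.dvd_or_dvd hdl with hd | hd
  · -- the derivative has smaller degree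
    obtain ⟨c, hc⟩ := hd
    have hc0 : c ≠ 0 := fun h0 => hl (by rw [hc, h0, mul_zero])
    have hdeg : p.degreeOf l ≤ (pderiv l p).degreeOf l := by
      rw [hc, MvPolynomial.degreeOf_mul_eq hp.ne_zero hc0]
      exact Nat.le_add_right _ _
    obtain ⟨d, hd, hdmax⟩ : ∃ d ∈ (pderiv l p).support, (pderiv l p).degreeOf l = d l := by
      rw [MvPolynomial.degreeOf_eq_sup]
      exact Finset.exists_mem_eq_sup _ (MvPolynomial.support_nonempty.mpr hl) _
    have hd' : d + Finsupp.single l 1 ∈ p.support := by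
      rw [MvPolynomial.mem_support_iff, MvPolynomial.coeff_pderiv] at hd
      exact MvPolynomial.mem_support_iff.mpr (left_ne_zero_of_mul hd)
    have h2 : (d + Finsupp.single l 1 : Fin 2 →₀ ℕ) l ≤ p.degreeOf l :=
      MvPolynomial.degreeOf_le_iff.mp le_rfl _ hd'
    rw [Finsupp.add_apply, Finsupp.single_eq_same] at h2
    omega
  · refine hno p hp (hqM hpq) ?_
    rw [pow_two]
    exact mul_dvd_mul_left p hd

/-- The image of the jacobian ideal of a double branch misses a power of a variable. -/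
theorem map_jac_le {f : R} {Y u : P} (hf : ι k f = Y ^ 2 * u) :
    (jac f).map (ι k) ≤ Ideal.span {Y} := by
  rw [jac, Ideal.map_span, Ideal.span_le, Set.image_union, Set.image_singleton]
  rintro _ (rfl | ⟨_, ⟨i, rfl⟩, rfl⟩)
  · rw [SetLike.mem_coe, hf, Ideal.mem_span_singleton]
    exact dvd_mul_of_dvd_left (dvd_pow_self Y two_ne_zero) u
  · rw [SetLike.mem_coe, Ideal.mem_span_singleton]
    have h1 : ι k (pderiv i f) = MvPowerSeries.pderiv k i (ι k f) :=
      (MvPowerSeries.pderiv_coe f).symm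
    rw [h1, hf, pow_two, mul_assoc, Derivation.leibniz, Derivation.leibniz, smul_eq_mul,
      smul_eq_mul, smul_eq_mul, smul_eq_mul]
    exact ⟨Y * MvPowerSeries.pderiv k i u + u * MvPowerSeries.pderiv k i Y +
      u * MvPowerSeries.pderiv k i Y, by ring⟩

/-- A plane curve with the completed ring of a double line is a double curve. -/
theorem exists_sq_mul [PerfectField k] {f : R}
    (hs : Same (ι k f) ((MvPowerSeries.X 1 : P) ^ 2)) :
    ∃ g h : R, f = g ^ 2 * h ∧ eval 0 h ≠ 0 ∧ eval 0 g = 0 ∧ ∃ i, eval 0 (pderiv i g) ≠ 0 := by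
  obtain ⟨e, u, hu, he⟩ := hs.exists_eq
  have hF : ι k f = (e.symm (MvPowerSeries.X 1)) ^ 2 * e.symm u := by
    rw [← map_pow, ← map_mul, ← he, AlgEquiv.symm_apply_apply]
  have hf0 : f ≠ 0 := fun h => by
    rw [h, map_zero, map_zero] at he
    exact (mul_ne_zero (pow_ne_zero 2 X1_ne_zero) hu.ne_zero) he.symm
  obtain ⟨p, hp, hp0, hdvd⟩ : ∃ p : R, Prime p ∧ eval 0 p = 0 ∧ p ^ 2 ∣ f := by
    by_contra hn
    push Not at hn
    set Y := e.symm (MvPowerSeries.X 1 : P) with hY
    have hpow : ∀ i : Fin 2, ∃ N, (MvPowerSeries.X i : P) ^ N ∈ Ideal.span {Y} := by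
      intro i
      obtain ⟨s, N, hs, hmem⟩ := exists_pow_mem_jac hf0 hn i
      refine ⟨N, ?_⟩
      have := map_jac_le hF (Ideal.mem_map_of_mem _ hmem)
      rw [map_mul, map_pow, MvPolynomial.coeToMvPowerSeries.ringHom_apply (φ := MvPolynomial.X i),
        MvPolynomial.coe_X] at this
      exact (Ideal.unit_mul_mem_iff_mem _ (isUnit_iff_notMem.mpr (ι_mem.not.mpr hs))).mp this
    choose N hN using hpow
    obtain ⟨A, B, hAB⟩ := ArSingLib.mv_decomp (e.symm (MvPowerSeries.X 0 : P))
    rw [mem_m.mp (aut_mem e.symm (X_mem 0)), map_zero, zero_add] at hAB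
    have h0 : (e.symm (MvPowerSeries.X 0 : P)) ^ (N 0 + N 1) ∈ Ideal.span {Y} := by
      rw [hAB]
      refine Ideal.add_pow_mem_of_pow_mem_of_le (m := N 0) (n := N 1) _ ?_ ?_ (Nat.le_succ _)
      · rw [mul_pow]; exact Ideal.mul_mem_right _ _ (hN 0)
      · rw [mul_pow]; exact Ideal.mul_mem_right _ _ (hN 1)
    have h1 := Ideal.mem_map_of_mem (e : P →+* P) h0
    rw [Ideal.map_span, Set.image_singleton, Ideal.mem_span_singleton, map_pow] at h1
    simp only [hY, RingHom.coe_coe, AlgEquiv.apply_symm_apply] at h1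
    rw [MvPowerSeries.X_dvd_iff] at h1
    have h2 := h1 (Finsupp.single 0 (N 0 + N 1)) (by simp)
    rw [MvPowerSeries.X_pow_eq, MvPowerSeries.coeff_monomial_same] at h2
    exact one_ne_zero h2
  obtain ⟨h, rfl⟩ := hdvd
  have hP : ι k p ∈ m k := ι_mem.mpr hp0
  have h3 : ι k (p ^ 2 * h) ∉ m k ^ 3 := fun h3 => X1_sq_notMem (hs.symm.mem_pow h3)
  refine ⟨p, h, rfl, fun hh => h3 ?_, hp0, ?_⟩
  · rw [map_mul (ι k), map_pow (ι k), pow_succ (m k) 2]
    exact Ideal.mul_mem_mul (Ideal.pow_mem_pow hP 2) (ι_mem.mpr hh)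
  · simp only [eval_pderiv_zero]
    refine (notMem_sq_iff hP).mp fun hp2 => h3 ?_
    rw [map_mul (ι k), map_pow (ι k)]
    refine Ideal.mul_mem_right _ _ (Ideal.pow_le_pow_right (show 3 ≤ 4 by norm_num) ?_)
    rw [show 4 = 2 * 2 from rfl, pow_mul]
    exact Ideal.pow_mem_pow hp2 2

end Groth.Agent.ArSingX
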