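import Mathlib
import Groth.Agent.ArSingX.SqLine
import Groth.Agent.PSLib.Regular

/-!
# Double points of plane curves are of type A
-/

noncomputable section

namespace Groth.Agent.ArSingX

open MvPolynomial (eval pderiv)
open MvPowerSeries (X C constantCoeff)

universe u

variable {k : Type u} [Field k]

local notation "P" => MvPowerSeries (Fin 2) k
local notation "A" => MvPowerSeries (Fin 1) k

theorem eqn_mem (n : ℕ) : ArSing.eqn k n ∈ m k :=
  mem_m.mpr ArSingLib.constantCoeff_eqn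

theorem eqn_notMem (n : ℕ) : ArSing.eqn k n ∉ m k ^ 3 := fun h => by
  classical
  have := PSLib.mem_pow_iff.mp h (Finsupp.single 1 2) (by simp)
  rw [ArSing.eqn, map_sub, MvPowerSeries.X_pow_eq, MvPowerSeries.X_pow_eq,
    MvPowerSeries.coeff_monomial_same, MvPowerSeries.coeff_monomial, if_neg, sub_zero] at this
  · exact one_ne_zero this
  · intro h'
    simpa using DFunLike.congr_fun h' (1 : Fin 2)

/-- A series of order one. -/
theorem same_eqn_zero {F : P} (hF : F ∈ m k) (h : F ∉ m k ^ 2) : Same F (ArSing.eqn k 0) := by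
  have hG : ArSing.eqn k 0 ∉ m k ^ 2 := fun hh => by
    classical
    have := PSLib.mem_pow_iff.mp hh (Finsupp.single 0 1) (by simp)
    rw [ArSing.eqn, zero_add, pow_one, map_sub, MvPowerSeries.X_pow_eq, MvPowerSeries.coeff_monomial,
      if_neg, zero_sub, MvPowerSeries.coeff_index_single_self_X, neg_eq_zero] at this
    · exact one_ne_zero this
    · intro h'
      simpa using DFunLike.congr_fun h' (1 : Fin 2)
  obtain ⟨e, he⟩ := exists_aut_X hF h
  obtain ⟨e', he'⟩ := exists_aut_X (eqn_mem 0) hG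
  refine (Same.trans (same_of_aut e.symm isUnit_one (G := X 1) ?_) ?_)
  · rw [← he, AlgEquiv.symm_apply_apply, mul_one]
  · exact same_of_aut e' isUnit_one (by rw [he', mul_one])

/-- Quadratic series. -/
theorem exists_quad {F : P} (hF : F ∈ m k ^ 2) :
    ∃ a b c : P, F = X 0 ^ 2 * a + X 0 * X 1 * b + X 1 ^ 2 * c := by
  rw [pow_two] at hF
  induction hF using Submodule.smul_induction_on' with
  | smul r hr s hs =>
    obtain ⟨G, H, hGH⟩ := ArSingLib.mv_decomp r
    obtain ⟨G', H', hGH'⟩ := ArSingLib.mv_decomp s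
    rw [mem_m.mp hr, map_zero, zero_add] at hGH
    rw [mem_m.mp hs, map_zero, zero_add] at hGH'
    exact ⟨G * G', G * H' + H * G', H * H', by rw [smul_eq_mul, hGH, hGH']; ring⟩
  | add x _ y _ hx hy =>
    obtain ⟨a, b, c, rfl⟩ := hx
    obtain ⟨a', b', c', rfl⟩ := hy
    exact ⟨a + a', b + b', c + c', by ring⟩

theorem exists_norm {F : P} (hF : F ∈ m k ^ 2) (h3 : F ∉ m k ^ 3) :
    ∃ (e : P ≃ₐ[k] P) (a b c : P), IsUnit a ∧
      e F = X 0 ^ 2 * a + X 0 * X 1 * b + X 1 ^ 2 * c := by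
  obtain ⟨a, b, c, rfl⟩ := exists_quad hF
  by_cases ha : IsUnit a
  · exact ⟨AlgEquiv.refl, a, b, c, ha, rfl⟩
  by_cases hc : IsUnit c
  · obtain ⟨e, h0, h1⟩ := exists_swap (k := k)
    refine ⟨e, e c, e b, e a, hc.map e, ?_⟩
    simp only [map_add, map_mul, map_pow, h0, h1]
    ring
  by_cases hb : IsUnit b
  · obtain ⟨e, he⟩ := ComodLib.PSAut.exists_algEquiv (![X 0, X 1 + X 0] : Fin 2 → P)
      (fun i => by fin_cases i; exacts [X_mem 0, add_mem (X_mem 1) (X_mem 0)]) fun j => by
        fin_cases j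
        · exact Ideal.subset_span ⟨0, rfl⟩
        · have h' := sub_mem
            (Ideal.subset_span ⟨1, rfl⟩ : (X 1 + X 0 : P) ∈ Ideal.span (Set.range ![X 0, X 1 + X 0]))
            (Ideal.subset_span ⟨0, rfl⟩ : (X 0 : P) ∈ Ideal.span (Set.range ![X 0, X 1 + X 0]))
          rwa [add_sub_cancel_right] at h'
    have h0 : e (X 0) = X 0 := he 0
    have h1 : e (X 1) = X 1 + X 0 := he 1
    refine ⟨e, e a + e b + e c, e b + 2 * e c, e c, ?_, ?_⟩
    · rw [isUnit_iff_notMem] at ha hb hc ⊢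
      rw [not_not] at ha hc
      intro h
      have h' := sub_mem (sub_mem h (aut_mem e ha)) (aut_mem e hc)
      rw [show e a + e b + e c - e a - e c = e b by ring] at h'
      have := aut_mem e.symm h'
      rw [AlgEquiv.symm_apply_apply] at this
      exact hb this
    · simp only [map_add, map_mul, map_pow, h0, h1]
      ring
  rw [isUnit_iff_notMem, not_not] at ha hb hc
  refine absurd ?_ h3
  have hX : ∀ i l : Fin 2, (X i * X l : P) ∈ m k ^ 2 := fun i l => by
    rw [pow_two]; exact Ideal.mul_mem_mul (X_mem i) (X_mem l)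
  rw [pow_succ (m k) 2, pow_two (X 0 : P), pow_two (X 1 : P)]
  exact add_mem (add_mem (Ideal.mul_mem_mul (hX 0 0) ha) (Ideal.mul_mem_mul (hX 0 1) hb))
    (Ideal.mul_mem_mul (hX 1 1) hc)

/-- A series in one variable is zero or a power of the variable times a unit. -/
theorem one_var (d : MvPowerSeries (Fin 1) k) : d = 0 ∨ ∃ (n : ℕ) (u : A), IsUnit u ∧ d = X 0 ^ n * u := by
  refine or_iff_not_imp_left.mpr fun hd => ?_
  have hex : ∃ n, MvPowerSeries.coeff (Finsupp.single 0 n) d ≠ 0 := by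
    by_contra hn
    push Not at hn
    refine hd (MvPowerSeries.ext fun e => ?_)
    rw [Finsupp.unique_single e, map_zero]
    exact hn _
  obtain ⟨n, hn⟩ := hex
  clear hd
  induction n using Nat.strong_induction_on generalizing d with
  | _ n ih =>
    by_cases h0 : constantCoeff d = 0
    · obtain ⟨d', rfl⟩ : (X 0 : A) ∣ d := by
        rw [MvPowerSeries.X_dvd_iff]
        intro e he
        have : e = 0 := Finsupp.ext fun i => by rw [Subsingleton.elim i 0]; exact he
        rw [this, MvPowerSeries.coeff_zero_eq_constantCoeff_apply, h0]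
      rcases n with _ | n
      · rw [Finsupp.single_zero, MvPowerSeries.coeff_zero_eq_constantCoeff_apply] at hn
        exact absurd h0 hn
      rw [Nat.add_comm, Finsupp.single_add, MvPowerSeries.X_def, MvPowerSeries.coeff_add_monomial_mul,
        one_mul] at hn
      obtain ⟨N, u, hu, rfl⟩ := ih n (Nat.lt_succ_self n) d' hn
      exact ⟨N + 1, u, hu, by ring⟩
    · exact ⟨0, d, MvPowerSeries.isUnit_iff_constantCoeff.mpr (isUnit_iff_ne_zero.mpr h0), by simp⟩

theorem exists_sqrt [IsAlgClosed k] (h2 : (2 : k) ≠ 0) {E : P} (hE : IsUnit E) :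
    ∃ w : P, IsUnit w ∧ w ^ 2 = E := by
  have hE0 : constantCoeff E ≠ 0 := (hE.map constantCoeff).ne_zero
  obtain ⟨c, hc⟩ := IsAlgClosed.exists_pow_nat_eq (constantCoeff E) two_pos
  have hc0 : c ≠ 0 := fun h => hE0 (by rw [← hc, h]; simp)
  obtain ⟨w, hw, -⟩ := HenselianRing.is_henselian
    (I := Ideal.span (Set.range (X : Fin 2 → P)))
    (Polynomial.X ^ 2 - Polynomial.C E) (Polynomial.monic_X_pow_sub_C E two_ne_zero)
    (C c) (by
      change _ ∈ m k
      rw [mem_m]; simp [hc]) (by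
      refine IsUnit.map _ (MvPowerSeries.isUnit_iff_constantCoeff.2 ?_)
      simpa [Polynomial.derivative_X_pow, MvPowerSeries.constantCoeff_C] using
        mul_ne_zero (show (1 + 1 : k) ≠ 0 by rwa [one_add_one_eq_two]) hc0)
  rw [Polynomial.IsRoot.def, Polynomial.eval_sub, Polynomial.eval_pow, Polynomial.eval_X,
    Polynomial.eval_C, sub_eq_zero] at hw
  exact ⟨w, (isUnit_pow_iff two_ne_zero).1 (by rw [hw]; exact hE), hw⟩

/-- Completing the square. -/
theorem same_of_norm [IsAlgClosed k] (h2 : (2 : k) ≠ 0) {a b c : P} (ha : IsUnit a) :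
    (∃ n, Same (X 0 ^ 2 * a + X 0 * X 1 * b + X 1 ^ 2 * c) (ArSing.eqn k n)) ∨
      Same (X 0 ^ 2 * a + X 0 * X 1 * b + X 1 ^ 2 * c) ((X 1 : P) ^ 2) := by
  set E := MvPowerSeries.finSuccEquiv k 1 with hE
  have hE0 : E (X 0) = PowerSeries.X := MvPowerSeries.finSuccEquiv_X_zero
  have hE1 : E (X 1) = PowerSeries.C (X 0) := MvPowerSeries.finSuccEquiv_X_succ (0 : Fin 1)
  set F := X 0 ^ 2 * a + X 0 * X 1 * b + X 1 ^ 2 * c with hF
  have : IsAdicComplete (IsLocalRing.maximalIdeal A) A := by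
    rw [PSLib.maximalIdeal_eq_vars]; infer_instance
  have hx : IsLocalRing.residue A (X 0) = 0 := (IsLocalRing.residue_eq_zero_iff _).mpr (by
    rw [PSLib.maximalIdeal_eq_vars]; exact Ideal.subset_span ⟨0, rfl⟩)
  have hmap : (E F).map (IsLocalRing.residue A) =
      PowerSeries.X ^ 2 * (E a).map (IsLocalRing.residue A) := by
    simp only [hF, map_add, map_mul, map_pow, hE0, hE1, PowerSeries.map_X, PowerSeries.map_C, hx,
      map_zero]
    ring
  have hua : IsUnit ((E a).map (IsLocalRing.residue A)) := (ha.map E).map (PowerSeries.map _)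
  have hne : (E F).map (IsLocalRing.residue A) ≠ 0 := by
    rw [hmap]
    exact mul_ne_zero (pow_ne_zero 2 PowerSeries.X_ne_zero) hua.ne_zero
  obtain ⟨f, h, hf⟩ := PowerSeries.exists_isWeierstrassFactorization hne
  have hdeg : f.natDegree = 2 := by
    rw [hf.natDegree_eq_toNat_order_map, hmap, PowerSeries.order_mul, PowerSeries.order_X_pow,
      PowerSeries.order_zero_of_unit hua, add_zero]
    rfl
  set b₀ := f.coeff 1 with hb₀
  set c₀ := f.coeff 0 with hc₀
  have hbm : b₀ ∈ IsLocalRing.maximalIdeal A := hf.isDistinguishedAt.mem (by omega)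
  have hcm : c₀ ∈ IsLocalRing.maximalIdeal A := hf.isDistinguishedAt.mem (by omega)
  have hfeq : (f : PowerSeries A) = PowerSeries.X ^ 2 + PowerSeries.C b₀ * PowerSeries.X + PowerSeries.C c₀ := by
    have h2' : f.coeff 2 = 1 := by
      rw [← hdeg]; exact hf.isDistinguishedAt.monic
    conv_lhs => rw [f.as_sum_range_C_mul_X_pow, hdeg]
    simp only [Finset.sum_range_succ, Finset.sum_range_zero, zero_add, h2', map_one, one_mul,
      pow_zero, mul_one, pow_one, Polynomial.coe_add, Polynomial.coe_mul, Polynomial.coe_C,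
      Polynomial.coe_X, Polynomial.coe_pow, ← hb₀, ← hc₀]
    ring
  let j : A →+* P := E.symm.toRingHom.comp PowerSeries.C
  have hjX : j (X 0) = X 1 := by
    change E.symm (PowerSeries.C (X 0)) = _
    rw [← hE1, AlgEquiv.symm_apply_apply]
  have hjC : ∀ r : k, j (C r) = C r := fun r =>
    RingHom.congr_fun (MvPowerSeries.finSuccEquiv_comp_C (R := k) (n := 1)) r
  have hju : ∀ {x : A}, IsUnit x → IsUnit (j x) := fun h => h.map j
  have hjm : ∀ {x : A}, x ∈ IsLocalRing.maximalIdeal A → ∃ y, j x = X 1 * y := by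
    intro x hx'
    rw [PSLib.maximalIdeal_eq_vars, PSLib.vars, Set.range_unique, Ideal.mem_span_singleton] at hx'
    obtain ⟨y, rfl⟩ := hx'
    exact ⟨j y, by rw [map_mul]; congr 1⟩
  set t : P := C ((2 : k)⁻¹) with ht
  have h2t : (2 : P) * t = 1 := by
    rw [show (2 : P) = C (2 : k) from (map_ofNat _ 2).symm, ← map_mul, mul_inv_cancel₀ h2, map_one]
  set d : A := c₀ - (C ((2 : k)⁻¹) * b₀) ^ 2 with hd
  have hdm : d ∈ IsLocalRing.maximalIdeal A :=
    sub_mem hcm (Ideal.pow_mem_of_mem _ (Ideal.mul_mem_left _ _ hbm) 2 two_pos)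
  set Y : P := X 0 + t * j b₀ with hY
  have hFY : F = (Y ^ 2 + j d) * E.symm h := by
    have : F = E.symm ((f : PowerSeries A) * h) := by
      rw [← hf.eq_mul, AlgEquiv.symm_apply_apply]
    rw [this, hfeq, map_mul, map_add, map_add, map_mul, map_pow, ← hE0, AlgEquiv.symm_apply_apply]
    change (X 0 ^ 2 + j b₀ * X 0 + j c₀) * _ = _
    congr 1
    rw [hY, hd, map_sub, map_pow, map_mul, hjC, ← ht]
    linear_combination (-(j b₀ * X 0)) * h2t
  have hh : IsUnit (E.symm h) := hf.isUnit.map E.symm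
  obtain ⟨β, hβ⟩ := hjm hbm
  have hYm : Y ∈ m k := add_mem (X_mem 0) (by
    rw [hβ, ← mul_assoc]; exact Ideal.mul_mem_right _ _ (Ideal.mul_mem_left _ _ (X_mem 1)))
  have coord : ∀ s : P, IsUnit s → ∃ e : P ≃ₐ[k] P, e (X 0) = X 1 ∧ e (X 1) = Y * s := by
    intro s hs
    obtain ⟨e, he⟩ := ComodLib.PSAut.exists_algEquiv (![X 1, Y * s] : Fin 2 → P)
      (fun i => by fin_cases i; exacts [X_mem 1, Ideal.mul_mem_right _ _ hYm]) fun l => by
        fin_cases l
        · have h1 : Y ∈ Ideal.span (Set.range (![X 1, Y * s] : Fin 2 → P)) :=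
            (Ideal.mul_unit_mem_iff_mem _ hs).mp (Ideal.subset_span ⟨1, rfl⟩)
          have h0 : (X 1 : P) ∈ Ideal.span (Set.range (![X 1, Y * s] : Fin 2 → P)) :=
            Ideal.subset_span ⟨0, rfl⟩
          change (X 0 : P) ∈ _
          rw [show (X 0 : P) = Y - X 1 * (t * β) by rw [hY, hβ]; ring]
          exact sub_mem h1 (Ideal.mul_mem_right _ _ h0)
        · exact Ideal.subset_span ⟨0, rfl⟩
    exact ⟨e, he 0, he 1⟩
  rcases one_var d with h0 | ⟨M, u, hu, hdu⟩
  · right
    obtain ⟨e, -, he1⟩ := coord 1 isUnit_one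
    refine same_of_aut e.symm (hh.map e.symm) ?_
    rw [hFY, h0, map_zero, add_zero, map_mul, map_pow,
      show Y = e (X 1) by rw [he1, mul_one], AlgEquiv.symm_apply_apply]
  · left
    have hM : M ≠ 0 := fun h' => by
      rw [hdu, h', pow_zero, one_mul] at hdm
      exact hdm hu
    obtain ⟨w, hw, hw2⟩ := exists_sqrt h2 (hju hu).neg
    obtain ⟨s, hs⟩ := hw.exists_left_inv
    obtain ⟨e, he0, he1⟩ := coord s (IsUnit.of_mul_eq_one _ hs)
    refine ⟨M - 1, Same.symm (same_of_aut e ((hw.pow 2).mul hh).unit⁻¹.isUnit ?_)⟩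
    apply ((hw.pow 2).mul hh).mul_right_cancel
    rw [mul_assoc F, IsUnit.val_inv_mul, mul_one, ArSing.eqn, Nat.sub_add_cancel (by omega),
      map_sub, map_pow, map_pow, he0, he1, hFY, hdu, map_mul, map_pow, hjX]
    linear_combination (Y ^ 2 * E.symm h * (s * w + 1)) * hs - (X 1 ^ M * E.symm h) * hw2

/-- Double points are of type `A`. -/
theorem same_model [IsAlgClosed k] (h2 : (2 : k) ≠ 0) {F : P} (hF : F ∈ m k) (h3 : F ∉ m k ^ 3) :
    (∃ n, Same F (ArSing.eqn k n)) ∨ Same F ((X 1 : P) ^ 2) := by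
  by_cases hF2 : F ∈ m k ^ 2
  · obtain ⟨e, a, b, c, ha, he⟩ := exists_norm hF2 h3
    have hs : Same F (X 0 ^ 2 * a + X 0 * X 1 * b + X 1 ^ 2 * c) :=
      same_of_aut e isUnit_one (by rw [he, mul_one])
    rcases same_of_norm h2 (b := b) (c := c) ha with ⟨n, h⟩ | h
    · exact Or.inl ⟨n, hs.trans h⟩
    · exact Or.inr (hs.trans h)
  · exact Or.inl ⟨0, same_eqn_zero hF hF2⟩

/-- Vanishing second jets. -/
theorem mem_cube_iff (h2 : (2 : k) ≠ 0) (f : MvPolynomial (Fin 2) k) (hf : eval 0 f = 0) :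
    ((∀ i, eval 0 (pderiv i f) = 0) ∧ ∀ i j, eval 0 (pderiv i (pderiv j f)) = 0) ↔
      ι k f ∈ m k ^ 3 := by
  classical
  have hco : ∀ d, MvPowerSeries.coeff d (ι k f) = MvPolynomial.coeff d f := fun d =>
    MvPolynomial.coeff_coe f d
  have key : ∀ i j : Fin 2, eval 0 (pderiv i (pderiv j f)) =
      MvPowerSeries.coeff (Finsupp.single i 1 + Finsupp.single j 1) (ι k f) *
        (((Finsupp.single i 1 : Fin 2 →₀ ℕ) j : k) + 1) := fun i j => by
    rw [eval_pderiv_zero, hco]
    change MvPowerSeries.coeff _ ((pderiv j f : MvPolynomial (Fin 2) k) : P) = _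
    rw [MvPolynomial.coeff_coe, MvPolynomial.coeff_pderiv]
  rw [PSLib.mem_pow_iff]
  constructor
  · rintro ⟨h1, h2'⟩ d hd
    rcases Nat.lt_succ_iff.mp hd |>.lt_or_eq with hlt | heq
    · rcases Nat.lt_succ_iff.mp hlt |>.lt_or_eq with hlt | heq
      · rw [(Finsupp.degree_eq_zero_iff d).mp (by omega),
          MvPowerSeries.coeff_zero_eq_constantCoeff_apply]
        exact mem_m.mp (ι_mem.mpr hf)
      · obtain ⟨i, rfl⟩ : ∃ i : Fin 2, d = Finsupp.single i 1 := by
          rw [Finsupp.degree_eq_sum, Fin.sum_univ_two] at heq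
          rcases Nat.eq_zero_or_pos (d 0) with h | h
          · exact ⟨1, Finsupp.ext fun l => by fin_cases l <;> simp <;> omega⟩
          · exact ⟨0, Finsupp.ext fun l => by fin_cases l <;> simp <;> omega⟩
        rw [← eval_pderiv_zero]
        exact h1 i
    · obtain ⟨i, j, rfl⟩ : ∃ i j : Fin 2, d = Finsupp.single i 1 + Finsupp.single j 1 := by
        rw [Finsupp.degree_eq_sum, Fin.sum_univ_two] at heq
        rcases Nat.lt_or_ge (d 0) 1 with h | h
        · exact ⟨1, 1, Finsupp.ext fun l => by fin_cases l <;> simp <;> omega⟩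
        rcases Nat.lt_or_ge (d 0) 2 with h' | h'
        · exact ⟨0, 1, Finsupp.ext fun l => by fin_cases l <;> simp <;> omega⟩
        · exact ⟨0, 0, Finsupp.ext fun l => by fin_cases l <;> simp <;> omega⟩
      have := h2' i j
      rw [key] at this
      refine (mul_eq_zero.mp this).resolve_right ?_
      rw [Finsupp.single_apply]
      split_ifs
      · rwa [Nat.cast_one, one_add_one_eq_two]
      · simp
  · intro h
    refine ⟨fun i => ?_, fun i j => ?_⟩
    · rw [eval_pderiv_zero]; exact h _ (by simp)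
    · rw [key, h _ (by simp [map_add]), zero_mul]

end Groth.Agent.ArSingX
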